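import Groth.Agent.H4GenFib.Main
import Groth.Agent.CohBC.God
import Groth.Agent.FibreGrowth.Fibre
import Groth.Agent.HilbPoly.Sat
import Mathlib.CategoryTheory.Limits.Preserves.Shapes.Kernels

/-!
# Submodules of the generic fibre extended to the whole family
-/

set_option autoImplicit false
set_option linter.style.haveILetI false
set_option linter.unusedSectionVars false
set_option backward.isDefEq.respectTransparency false
set_option backward.isDefEq.respectTransparency.types false
set_option maxHeartbeats 1000000

universe u

open CategoryTheory CategoryTheory.Limits AlgebraicGeometry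

attribute [-instance] CategoryTheory.catToReflQuiver

noncomputable section

namespace Groth.Agent.HNGen

open Groth.Agent

/-- The counit of a flat quasi-compact monomorphism on a quasi-coherent module. -/
theorem isIso_counit_of_flat_mono {Z X : Scheme.{u}} (j : Z ⟶ X) [Flat j] [QuasiCompact j] [QuasiSeparated j]
    [Mono j] {M : Z.Modules} (hM : Coh.IsQCoh M) :
    IsIso ((Scheme.Modules.pullbackPushforwardAdjunction j).counit.app M) := by
  have sq : IsPullback (𝟙 Z) (𝟙 Z) j j := IsKernelPair.id_of_mono j
  haveI := CohBC.isIso_bc0 j j (𝟙 Z) (𝟙 Z) sq hM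
  let adj := Scheme.Modules.pullbackPushforwardAdjunction j
  let u : M ⟶ (Scheme.Modules.pushforward (𝟙 Z)).obj ((Scheme.Modules.pullback (𝟙 Z)).obj M) :=
    (Scheme.Modules.pullbackPushforwardAdjunction (𝟙 Z)).unit.app M
  haveI : IsIso u := by
    haveI : IsIso (Scheme.Modules.pullbackPushforwardAdjunction (𝟙 Z)).unit := by
      haveI : (Scheme.Modules.pullback (𝟙 Z)).IsEquivalence :=
        Functor.isEquivalence_of_iso (Scheme.Modules.pullbackId Z).symm
      infer_instance
    infer_instance
  have hadj : CohBC.bc0Adj j j (𝟙 Z) (𝟙 Z) sq.w M = (Scheme.Modules.pushforward j).map u := by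
    refine Scheme.Modules.hom_ext _ _ fun U => ?_
    simp only [CohBC.bc0Adj, Scheme.Modules.Hom.comp_app, Scheme.Modules.pushforwardComp_hom_app_app,
      Scheme.Modules.pushforwardComp_inv_app_app]
    ext s
    simp
    rfl
  have h : CohBC.bc0 j j (𝟙 Z) (𝟙 Z) sq.w M = adj.counit.app M ≫ u := by
    rw [CohBC.bc0, hadj, Adjunction.homEquiv_counit]
    exact adj.counit.naturality u
  haveI : IsIso (adj.counit.app M ≫ u) := h ▸ inferInstance
  exact IsIso.of_isIso_comp_right (adj.counit.app M) u

variable {X S : Scheme.{u}} [IsIntegral S] (f : X ⟶ S) {F : X.Modules}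

/-- The inclusion of the generic fibre. -/
abbrev genι : f.fiber (genericPoint S) ⟶ X := f.fiberι (genericPoint S)

theorem preservesFiniteLimits_genι : PreservesFiniteLimits (Scheme.Modules.pullback (genι f)) := by
  haveI := H4GenFib.flat_fiberι f
  haveI := LimMod.preservesHomology_pullback (genι f)
  exact Functor.preservesFiniteLimits_of_preservesHomology _

/-- The restriction of a submodule to the generic fibre. -/
def pbs (T : Subobject F) : Subobject ((Scheme.Modules.pullback (genι f)).obj F) :=
  haveI := preservesFiniteLimits_genι f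
  Subobject.mk ((Scheme.Modules.pullback (genι f)).map T.arrow)

/-- The map defining the extension of a submodule of the generic fibre. -/
def extMap (S' : Subobject ((Scheme.Modules.pullback (genι f)).obj F)) :
    F ⟶ (Scheme.Modules.pushforward (genι f)).obj (cokernel S'.arrow) :=
  (Scheme.Modules.pullbackPushforwardAdjunction (genι f)).homEquiv _ _ (cokernel.π S'.arrow)

/-- The largest submodule with given restriction to the generic fibre. -/
def extSub (S' : Subobject ((Scheme.Modules.pullback (genι f)).obj F)) : Subobject F :=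
  kernelSubobject (extMap f S')

theorem extSub_mono {S₁ S₂ : Subobject ((Scheme.Modules.pullback (genι f)).obj F)} (h : S₁ ≤ S₂) :
    extSub f S₁ ≤ extSub f S₂ := by
  refine le_kernelSubobject (extMap f S₂) (extSub f S₁) ?_
  have h1 : extMap f S₂ = extMap f S₁ ≫ (Scheme.Modules.pushforward (genι f)).map
      (cokernel.desc S₁.arrow (cokernel.π S₂.arrow)
        (by rw [← Subobject.ofLE_arrow h, Category.assoc, cokernel.condition, comp_zero])) := by
    rw [extMap, extMap, ← Adjunction.homEquiv_naturality_right, cokernel.π_desc]
  rw [h1]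
  show (kernelSubobject (extMap f S₁)).arrow ≫ _ = 0
  rw [kernelSubobject_arrow_comp_assoc, zero_comp]

variable [QuasiSeparated (genι f)]

theorem map_extMap_counit (S' : Subobject ((Scheme.Modules.pullback (genι f)).obj F)) :
    (Scheme.Modules.pullback (genι f)).map (extMap f S') ≫
      (Scheme.Modules.pullbackPushforwardAdjunction (genι f)).counit.app _ = cokernel.π S'.arrow :=
  ((Scheme.Modules.pullbackPushforwardAdjunction (genι f)).homEquiv_counit _ _ _).symm.trans
    (((Scheme.Modules.pullbackPushforwardAdjunction (genι f)).homEquiv _ _).symm_apply_apply _)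

theorem pbs_extSub (S' : Subobject ((Scheme.Modules.pullback (genι f)).obj F))
    (hQ : Coh.IsQCoh (cokernel S'.arrow)) : pbs f (extSub f S') = S' := by
  haveI := preservesFiniteLimits_genι f
  haveI := H4GenFib.flat_fiberι f
  haveI := H4GenFib.isAffineHom_fiberι f
  haveI : Mono (genι f) := inferInstance
  haveI := isIso_counit_of_flat_mono (genι f) hQ
  let G := Scheme.Modules.pullback (genι f)
  apply le_antisymm
  · have h0 : G.map (extSub f S').arrow ≫ cokernel.π S'.arrow = 0 := by
      rw [← map_extMap_counit, ← Category.assoc, ← Functor.map_comp, extSub, kernelSubobject_arrow_comp,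
        Functor.map_zero, zero_comp]
    exact Subobject.mk_le_of_comm (Abelian.monoLift S'.arrow (G.map (extSub f S').arrow) h0)
      (Abelian.monoLift_comp _ _ _)
  · have h0 : S'.arrow ≫ G.map (extMap f S') = 0 := by
      rw [← cancel_mono ((Scheme.Modules.pullbackPushforwardAdjunction (genι f)).counit.app (cokernel S'.arrow)),
        Category.assoc, map_extMap_counit, cokernel.condition, zero_comp]
    refine Subobject.le_mk_of_comm
      (kernel.lift (G.map (extMap f S')) S'.arrow h0 ≫ (PreservesKernel.iso G (extMap f S')).inv ≫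
        G.map (kernelSubobjectIso (extMap f S')).inv) ?_
    rw [Category.assoc, Category.assoc, ← Functor.map_comp,
      show (kernelSubobjectIso (extMap f S')).inv ≫ (extSub f S').arrow = kernel.ι (extMap f S') from
        kernelSubobject_arrow' _,
      PreservesKernel.iso_inv_ι, kernel.lift_ι]

theorem isCoh_extSub [IsNoetherian X] (hF : Coh.IsCoh F)
    (S' : Subobject ((Scheme.Modules.pullback (genι f)).obj F)) (hQ : Coh.IsQCoh (cokernel S'.arrow)) :
    Coh.IsCoh (extSub f S' : X.Modules) := by
  haveI := H4GenFib.isAffineHom_fiberι f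
  have hk : Coh.IsQCoh (kernel (extMap f S')) := QCoh.isQCoh_kernel hF.1 (QCoh.isQCoh_pushforward _ hQ) _
  exact HilbPoly.isCoh_of_iso (kernelSubobjectIso (extMap f S')).symm (QCoh.isCoh_of_mono (kernel.ι _) hF hk)

theorem extSub_top (S' : Subobject ((Scheme.Modules.pullback (genι f)).obj F)) (h : S' = ⊤) :
    extSub f S' = ⊤ := by
  subst h
  rw [eq_top_iff]
  refine le_kernelSubobject _ _ ?_
  have h0 : cokernel.π (⊤ : Subobject ((Scheme.Modules.pullback (genι f)).obj F)).arrow = 0 :=
    cokernel.π_of_epi _
  rw [extMap, h0, Adjunction.homEquiv_unit, Functor.map_zero, comp_zero, comp_zero]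

theorem extSub_bot (hF : Coh.IsQCoh F) (hfl : FlatMod.IsFlatOver f F)
    (S' : Subobject ((Scheme.Modules.pullback (genι f)).obj F)) (h : S' = ⊥) : extSub f S' = ⊥ := by
  subst h
  haveI := H4GenFib.mono_unit f hF hfl
  have h0 : (⊥ : Subobject ((Scheme.Modules.pullback (genι f)).obj F)).arrow = 0 := Subobject.bot_arrow
  haveI : Mono (cokernel.π (⊥ : Subobject ((Scheme.Modules.pullback (genι f)).obj F)).arrow) :=
    Preadditive.mono_of_cancel_zero _ fun {A} g hg => by
      have := congrArg (· ≫ cokernel.desc _ (𝟙 _) (by rw [h0, zero_comp])) hg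
      simpa using this
  haveI : Mono ((Scheme.Modules.pushforward (genι f)).map
      (cokernel.π (⊥ : Subobject ((Scheme.Modules.pullback (genι f)).obj F)).arrow)) := by
    haveI : (Scheme.Modules.pushforward (genι f)).PreservesMonomorphisms :=
      Functor.preservesMonomorphisms_of_adjunction (Scheme.Modules.pullbackPushforwardAdjunction (genι f))
    infer_instance
  haveI : Mono (extMap f (⊥ : Subobject ((Scheme.Modules.pullback (genι f)).obj F))) := by
    rw [extMap, Adjunction.homEquiv_unit]; exact mono_comp _ _
  rw [eq_bot_iff]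
  refine Subobject.mk_le_of_comm 0 ?_
  rw [zero_comp]
  exact (kernel.ι_of_mono _).symm

end Groth.Agent.HNGen

end
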