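import Groth.Agent.StabOpen.Main
import Groth.Agent.FibreGrowth.Fibre

/-!
# Properties of the generic fibre spread to an open set
-/

set_option autoImplicit false
set_option linter.style.haveILetI false
set_option linter.unusedSectionVars false
set_option backward.isDefEq.respectTransparency false
set_option backward.isDefEq.respectTransparency.types false
set_option maxHeartbeats 1000000

universe u

open CategoryTheory CategoryTheory.Limits AlgebraicGeometry TopologicalSpace

attribute [-instance] CategoryTheory.catToReflQuiver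

noncomputable section

namespace Groth.Agent.HNGen

open Groth.Agent Groth.Agent.StabOpen StabCat
open scoped Groth.Agent.H23.PicMul

variable {X S : Scheme.{u}} [IsNoetherian S] (f : X ⟶ S) [IsProper f] {L : X.Modules} (hL : PicF.IsInvertible L)
  {G : X.Modules} (hG : Coh.IsCoh G)

include hL hG

/-- Euler characteristics of the twists on a fibre. -/
theorem euler_fib (s : S) (j : ℕ) :
    Curv2.euler (S.residueField s) (fib f s)
        (ShStab.twist (fib f s) (CohIII.fiberMod f L s) (CohIII.fiberMod f G s) j) =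
      PerfAux.eulerChar f (CohB1.tensorMod G (CohB1.tensorPow L j)) s := by
  let t : Spec (CommRingCat.of (S.residueField s)) ⟶ S := S.fromSpecResidueField s
  let P := pullback f t
  letI : P.Over (Spec (CommRingCat.of (S.residueField s))) := ⟨pullback.snd f t⟩
  haveI : IsLocallyNoetherian X := LocallyOfFiniteType.isLocallyNoetherian f
  let Gt := (Scheme.Modules.pullback (pullback.fst f t)).obj G
  let Lt := (Scheme.Modules.pullback (pullback.fst f t)).obj L
  have hGt : Coh.IsQCoh Gt := QCoh.isQCoh_pullback _ hG.1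
  have hLt : PicF.IsInvertible Lt := PicClLib.isInvertible_pullback _ hL
  have h1 : PerfAux.eulerChar (pullback.snd f t) (CohB1.tensorMod Gt (CohB1.tensorPow Lt j)) default =
      PerfAux.eulerChar f (CohB1.tensorMod G (CohB1.tensorPow L j)) (t default) :=
    finsum_congr fun q => by
      rw [PBC.betti_eq_fiberRank, PBC.betti_eq_fiberRank,
        HilbSnap.fiberRank_twist_bc (IsPullback.of_hasPullback f t) hG.1 hL]
  have h2 := QuotRep.eulerChar_field (pullback.snd f t)
    (CohBasic.isQCoh_tensorMod hGt (ProjUPX.isQCoh_of_isInvertible (InvX.isInvertible_tensorPow hLt j))) default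
  have h3 : t default = s := Scheme.fromSpecResidueField_apply _ _
  rw [h3] at h1
  exact h2.symm.trans h1

/-- The Hilbert polynomial is constant above an irreducible open set where the module is flat. -/
theorem hilb_above [IrreducibleSpace S] {W : S.Opens} (hfl : FibreGrowth.FlatAbove f W G) {s₀ s : S}
    (hs₀ : s₀ ∈ W) (hs : s ∈ W) {P : Polynomial ℚ}
    (hP : ShStab.IsHilbPoly (S.residueField s₀) (fib f s₀) (CohIII.fiberMod f L s₀) (CohIII.fiberMod f G s₀) P) :
    ShStab.IsHilbPoly (S.residueField s) (fib f s) (CohIII.fiberMod f L s) (CohIII.fiberMod f G s) P := by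
  intro j
  rw [← hP j, euler_fib f hL hG, euler_fib f hL hG]
  haveI : IsLocallyNoetherian X := LocallyOfFiniteType.isLocallyNoetherian f
  haveI : IsLocallyNoetherian (W : Scheme.{u}) := LocallyOfFiniteType.isLocallyNoetherian W.ι
  haveI : LocallyOfFinitePresentation (f ∣_ W) := inferInstance
  have hinv := InvX.isInvertible_tensorPow hL j
  let M := CohB1.tensorMod G (CohB1.tensorPow L j)
  have hM : Coh.IsCoh M := AmpleVan.isCoh_tensor hG (AmpleVan.isCoh_invertible hinv)
  let M' := (Scheme.Modules.pullback (f ⁻¹ᵁ W).ι).obj M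
  have hM' : Coh.IsCoh M' := ZClosLib.isCoh_pullback _ hM
  have hM'fl : FlatMod.IsFlatOver (f ∣_ W) M' := fun x =>
    (FibFlatMod.flatAt_openImmersion (f := f) (f' := f ∣_ W) (jX := (f ⁻¹ᵁ W).ι) (jY := W.ι)
      (morphismRestrict_ι f W) M x).2 (hfl.tensor hinv _ x.2)
  have hlc := PBC.isLocallyConstant_eulerChar (f ∣_ W) M' (QCoh.isCoh_iff_isFP.1 hM') hM'fl
  haveI : PreconnectedSpace (W : Scheme.{u}) := by
    have h : IsPreirreducible (W : Set S) :=
      (PreirreducibleSpace.isPreirreducible_univ (X := S)).open_subset W.2 (Set.subset_univ _)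
    exact Subtype.preconnectedSpace h.isPreconnected
  have hres : ∀ z : (W : Scheme.{u}), PerfAux.eulerChar (f ∣_ W) M' z = PerfAux.eulerChar f M z.1 := fun z =>
    finsum_congr fun q => by
      rw [PBC.betti_eq_fiberRank, PBC.betti_eq_fiberRank, PBC.fiberRank_restrict f hM.1 W q z]
  have := hlc.apply_eq_of_preconnectedSpace (⟨s, hs⟩ : (W : Scheme.{u})) ⟨s₀, hs₀⟩
  rw [hres, hres] at this
  exact_mod_cast this

variable {n : ℕ} (i : X ⟶ CohB1.ProjSpaceOver n S) [IsClosedImmersion i]
  (hf : i ≫ CohB1.ProjSpaceOver.toBase n S = f)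
  (eL : L ≅ (Scheme.Modules.pullback i).obj (Twist.twistOver n S 1))

omit hL in
include hf eL in
/-- `ℓ`-semistability spreads from a point to a neighbourhood inside a flatness open. -/
theorem exists_open_ellSS [IrreducibleSpace S] {d ℓ : ℕ} (hℓ : 1 ≤ ℓ) {W : S.Opens}
    (hfl : FibreGrowth.FlatAbove f W G) {s₀ : S} (hs₀ : s₀ ∈ W)
    (h : ShStab.IsEllSemistable (S.residueField s₀) (fib f s₀) (CohIII.fiberMod f L s₀) (CohIII.fiberMod f G s₀) d ℓ) :
    ∃ U : S.Opens, s₀ ∈ U ∧ ∀ s ∈ U, ShStab.IsEllSemistable (S.residueField s) (fib f s)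
      (CohIII.fiberMod f L s) (CohIII.fiberMod f G s) d ℓ := by
  haveI : IsLocallyNoetherian X := LocallyOfFiniteType.isLocallyNoetherian f
  have hLi : PicF.IsInvertible L := H23.PicMul.isInvertible_of_iso eL.symm (QuotRep.isInvertible_O1 i)
  have hamp := fun s => isAmple_fib f i hf eL s
  have hc : ∀ s, Coh.IsCoh (CohIII.fiberMod f G s) := fun s => FibreGrowth.isCoh_pullback_fiber f hG s
  obtain ⟨hc₀, h0, hp, -⟩ := id h
  have hdim := HilbPoly.dim_of_isPure hp hc₀ h0
  obtain ⟨P, hP, -, -⟩ := HilbPoly.exists_hilb (k := S.residueField s₀) (X := fib f s₀) (hamp s₀).1 hc₀ hdim.le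
  obtain ⟨hdeg, hpos⟩ := poly_props f hG s₀ (hamp s₀) hP hdim
  have hPW : ∀ s ∈ (W : Set S), ShStab.IsHilbPoly (S.residueField s) (fib f s) (CohIII.fiberMod f L s)
      (CohIII.fiberMod f G s) P := fun s hs => hilb_above f hLi hG hfl hs₀ hs hP
  obtain ⟨U, hU⟩ := exists_open_fibres i f hf L eL (isDestab_bEllSS d hℓ) hG hdeg hpos W hPW
  have up : s₀ ∈ U := by
    refine (hU s₀ hs₀).2 (AlgebraicClosure (S.residueField s₀)) ?_
    have hsq := ShBC.sq_bc (S.residueField s₀) (fib f s₀) (AlgebraicClosure (S.residueField s₀))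
    haveI := ShBC.isProper_of_sq hsq
    exact (isEllSemistable_iff_noBad (ShBC.isAmple_of_sq hsq (hamp s₀)) (ZClosLib.isCoh_pullback _ hc₀) hdeg hpos
      (ShBC.hilb_pull hsq (hamp s₀).1 hc₀.1 hP) ℓ).1 (isEllSemistable_bc _ (hamp s₀) h)
  refine ⟨W ⊓ U, ⟨hs₀, up⟩, fun s hs => ?_⟩
  exact (isEllSemistable_iff_noBad (k := S.residueField s) (X := fib f s) (hamp s) (hc s) hdeg hpos
    (hPW s hs.1) ℓ).2 (NoBad.descend (ShBC.sq_bc _ _ _) (hamp s).1 (hc s).1
      ((hU s hs.1).1 hs.2 (AlgebraicClosure (S.residueField s))))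

end Groth.Agent.HNGen

end
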