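import Groth.Agent.HNGen.Extend
import Groth.Agent.HNGen.Spread
import Groth.Agent.S4698
import Groth.Agent.ShStabLib.Apply

/-!
# The generic relative `ℓ`-Harder–Narasimhan filtration
-/

set_option autoImplicit false
set_option linter.style.haveILetI false
set_option linter.unusedSectionVars false
set_option backward.isDefEq.respectTransparency false
set_option backward.isDefEq.respectTransparency.types false
set_option maxHeartbeats 1000000

universe u

open CategoryTheory CategoryTheory.Limits AlgebraicGeometry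

attribute [-instance] CategoryTheory.catToReflQuiver

noncomputable section

namespace Groth.Agent.HNGen

open Groth.Agent StabCat Groth.Agent.ShStabLib

/-- Nonempty opens of an irreducible space containing the generic point, in finite families. -/
theorem exists_open_forall {S : Scheme.{u}} [IrreducibleSpace S] {n : ℕ} (Q : Fin n → S → Prop)
    (h : ∀ i, ∃ U : S.Opens, genericPoint S ∈ U ∧ ∀ s ∈ U, Q i s) :
    ∃ U : S.Opens, genericPoint S ∈ U ∧ ∀ i, ∀ s ∈ U, Q i s := by
  choose U hU hQ using h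
  refine ⟨⟨⋂ i, (U i : Set S), isOpen_iInter_of_finite fun i => (U i).2⟩, Set.mem_iInter.2 hU,
    fun i s hs => hQ i s (Set.mem_iInter.1 hs i)⟩

section Series

variable {C : Type*} [Category C] [Abelian C]

/-- Equal subobjects have isomorphic subquotients. -/
theorem nonempty_subquot_congr {E : C} {S S' U U' : Subobject E} (hS : S = S') (hU : U = U') (h : S ≤ U) (h' : S' ≤ U') :
    Nonempty (cokernel (Subobject.ofLE S U h) ≅ cokernel (Subobject.ofLE S' U' h')) := by
  subst hS; subst hU; exact ⟨Iso.refl _⟩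

/-- The factor at a step is nonzero. -/
theorem not_isZero_of_ss {E : C} {S U : Subobject E} (h : S ≤ U) (h0 : ¬ IsZero (cokernel (Subobject.ofLE S U h))) :
    S < U := by
  refine lt_of_le_of_ne h fun he => h0 ?_
  subst he
  haveI : IsIso (Subobject.ofLE S S h) := by
    rw [show Subobject.ofLE S S h = 𝟙 _ from Subobject.ofLE_refl _]
    infer_instance
  exact isZero_cokernel_of_epi _

/-- The image of a subquotient under a right exact functor that keeps the inclusions injective. -/
theorem nonempty_subquot_map {D : Type*} [Category D] [Abelian D] (G : C ⥤ D) [G.PreservesZeroMorphisms]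
    [PreservesColimitsOfShape WalkingParallelPair G] {E : C}
    {S U : Subobject E} (h : S ≤ U) [Mono (G.map S.arrow)] [Mono (G.map U.arrow)]
    (h' : Subobject.mk (G.map S.arrow) ≤ Subobject.mk (G.map U.arrow)) :
    Nonempty (cokernel (Subobject.ofLE _ _ h') ≅ G.obj (cokernel (Subobject.ofLE S U h))) := by
  refine ⟨cokernel.mapIso _ (G.map (Subobject.ofLE S U h)) (Subobject.underlyingIso _) (Subobject.underlyingIso _) ?_ ≪≫
    (PreservesCokernel.iso G _).symm⟩
  rw [← cancel_mono (G.map U.arrow)]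
  simp only [Category.assoc]
  rw [Subobject.underlyingIso_hom_comp_eq_mk, Subobject.ofLE_arrow, ← G.map_comp, Subobject.ofLE_arrow,
    Subobject.underlyingIso_hom_comp_eq_mk]

theorem mk_map_le {D : Type*} [Category D] (G : C ⥤ D) {E : C} {S U : Subobject E} (h : S ≤ U)
    [Mono (G.map S.arrow)] [Mono (G.map U.arrow)] : Subobject.mk (G.map S.arrow) ≤ Subobject.mk (G.map U.arrow) :=
  Subobject.mk_le_mk_of_comm (G.map (Subobject.ofLE S U h)) (by rw [← G.map_comp, Subobject.ofLE_arrow])

end Series

variable {X S : Scheme.{u}} [IsNoetherian S] [IsIntegral S] (f : X ⟶ S) [IsProper f] {n : ℕ}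
  (i : X ⟶ CohB1.ProjSpaceOver n S) [IsClosedImmersion i] (hf : i ≫ CohB1.ProjSpaceOver.toBase n S = f)
  {L : X.Modules} (eL : L ≅ (Scheme.Modules.pullback i).obj (Twist.twistOver n S 1))

include hf eL in
/-- The generic relative filtration. -/
theorem exists_generic_ellHN {F : X.Modules} (hF : Coh.IsCoh F) (hfl : FlatMod.IsFlatOver f F) {d ℓ : ℕ} (hℓ : 1 ≤ ℓ)
    (hpure : ShStab.IsPure (StabOpen.fib f (genericPoint S)) (CohIII.fiberMod f F (genericPoint S)) d) :
    ∃ (U : S.Opens) (t : LTSeries (Subobject F)), (U : Set S).Nonempty ∧ t.head = ⊥ ∧ t.last = ⊤ ∧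
      (∀ j : Fin (t.length + 1), Coh.IsCoh (t j : X.Modules)) ∧
      (∀ (j : Fin t.length) (x : X), f x ∈ U → FlatMod.IsFlatOverAt f (factor t j) x) ∧
      ∀ s : S, s ∈ U → ∃ ts : LTSeries (Subobject (CohIII.fiberMod f F s)),
        ts.length = t.length ∧
        (∀ (j : Fin (t.length + 1)) (j' : Fin (ts.length + 1)), j.val = j'.val →
          ts j' = imageSubobject ((Scheme.Modules.pullback (f.fiberι s)).map (t j).arrow)) ∧
        IsHNWith (fun G => ShStab.IsEllSemistable (S.residueField s) (StabOpen.fib f s) (CohIII.fiberMod f L s) G d ℓ)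
          (fun G P => ∃ Q : Polynomial ℚ,
            ShStab.IsHilbPoly (S.residueField s) (StabOpen.fib f s) (CohIII.fiberMod f L s) G Q ∧ P = topPart ℓ d Q)
          d (CohIII.fiberMod f F s) ts := by
  haveI : IsLocallyNoetherian X := LocallyOfFiniteType.isLocallyNoetherian f
  haveI : CompactSpace X := QuasiCompact.compactSpace_of_compactSpace f
  haveI : IsNoetherian X := {}
  have hamp := fun s => StabOpen.isAmple_fib f i hf eL s
  have hLi : PicF.IsInvertible L := H23.PicMul.isInvertible_of_iso eL.symm (QuotRep.isInvertible_O1 i)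
  let η := genericPoint S
  haveI := H4GenFib.isAffineHom_fiberι f
  haveI : IsNoetherian (f.fiber η) := CurveCohLib.isNoetherian_of_proper (k := S.residueField η) (X := StabOpen.fib f η)
  have hFη : Coh.IsCoh (CohIII.fiberMod f F η) := FibreGrowth.isCoh_pullback_fiber f hF η
  obtain ⟨s, hs⟩ := exists_isHN (k := S.residueField η) (X := StabOpen.fib f η) (τ := Tr.top d ℓ) (hamp η) hFη hpure
  have hsQ : ∀ j, Coh.IsQCoh (cokernel (s j).arrow) := fun j =>
    (hs.tower (k := S.residueField η) (X := StabOpen.fib f η) (hamp η) hFη hpure j).1.1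
  have hpbs : ∀ j, pbs f (extSub f (s j)) = s j := fun j => pbs_extSub f (s j) (hsQ j)
  let tf : Fin (s.length + 1) → Subobject F := fun j => extSub f (s j)
  have hstep : ∀ j : Fin s.length, tf j.castSucc < tf j.succ := fun j => by
    refine lt_of_le_of_ne (extSub_mono f (s.step j).le) fun he => ne_of_lt (show s j.castSucc < s j.succ from s.step j) ?_
    have := congrArg (pbs f) he
    rwa [hpbs, hpbs] at this
  let t : LTSeries (Subobject F) := ⟨s.length, tf, hstep⟩
  have hth : t.head = ⊥ := extSub_bot f hF.1 hfl _ hs.head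
  have htl : t.last = ⊤ := extSub_top f _ hs.last
  have htc : ∀ j, Coh.IsCoh (t j : X.Modules) := fun j => isCoh_extSub f hF _ (hsQ j)
  have hfc : ∀ j : Fin t.length, Coh.IsCoh (factor t j) := fun j => QCoh.isCoh_cokernel (htc _).1 (htc _) _
  have hQc : ∀ j, Coh.IsCoh (cokernel (t j).arrow) := fun j => QCoh.isCoh_cokernel (htc _).1 hF _
  obtain ⟨U₁, hU₁, hfl₁⟩ := exists_open_forall (fun (j : Fin t.length) (y : S) => ∀ x : X, f x = y →
      FlatMod.IsFlatOverAt f (factor t j) x) fun j => by
    obtain ⟨U, hne, hU⟩ := Groth.Agent.S4698.result f (factor t j) (hfc j)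
    exact ⟨U, ((genericPoint_spec S).mem_open_set_iff U.2).2 (by simpa using hne),
      fun y hy x hx => hU x (show f x ∈ U by rw [hx]; exact hy)⟩
  obtain ⟨U₂, hU₂, hfl₂⟩ := exists_open_forall (fun (j : Fin (t.length + 1)) (y : S) => ∀ x : X, f x = y →
      FlatMod.IsFlatOverAt f (cokernel (t j).arrow) x) fun j => by
    obtain ⟨U, hne, hU⟩ := Groth.Agent.S4698.result f (cokernel (t j).arrow) (hQc j)
    exact ⟨U, ((genericPoint_spec S).mem_open_set_iff U.2).2 (by simpa using hne),
      fun y hy x hx => hU x (show f x ∈ U by rw [hx]; exact hy)⟩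
  have hmono : ∀ (z : S), z ∈ U₂ → ∀ j, Mono ((Scheme.Modules.pullback (f.fiberι z)).map (t j).arrow) :=
    fun z hz j => FibreGrowth.mono_pullback f (IsPullback.of_hasPullback f (S.fromSpecResidueField z))
      (htc j).1 hF.1 (t j).arrow fun x => hfl₂ j z hz _ (by
        have hmem : f.fiberι z x ∈ Set.range (f.fiberι z) := ⟨x, rfl⟩
        rw [Scheme.Hom.range_fiberι] at hmem
        exact hmem)
  have hfac : ∀ (z : S) (hz : z ∈ U₂) (j : Fin t.length),
      haveI := hmono z hz
      Nonempty (cokernel (Subobject.ofLE (Subobject.mk ((Scheme.Modules.pullback (f.fiberι z)).map (t j.castSucc).arrow))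
        (Subobject.mk ((Scheme.Modules.pullback (f.fiberι z)).map (t j.succ).arrow))
        (mk_map_le _ (t.step j).le)) ≅ CohIII.fiberMod f (factor t j) z) := fun z hz j => by
    haveI := hmono z hz
    haveI := (Scheme.Modules.pullbackPushforwardAdjunction (f.fiberι z)).isLeftAdjoint
    exact nonempty_subquot_map (Scheme.Modules.pullback (f.fiberι z)) (t.step j).le _
  have hgen : ∀ j : Fin s.length, Nonempty (factor s j ≅ CohIII.fiberMod f (factor t j) η) := fun j => by
    haveI := hmono η hU₂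
    obtain ⟨e⟩ := hfac η hU₂ j
    obtain ⟨e'⟩ := nonempty_subquot_congr (hpbs j.castSucc) (hpbs j.succ)
      (show pbs f (extSub f (s j.castSucc)) ≤ pbs f (extSub f (s j.succ)) by rw [hpbs, hpbs]; exact (s.step j).le)
      (s.step j).le
    exact ⟨e'.symm ≪≫ e⟩
  obtain ⟨U₃, hU₃, hss⟩ := exists_open_forall (fun (j : Fin t.length) (y : S) =>
      ShStab.IsEllSemistable (S.residueField y) (StabOpen.fib f y) (CohIII.fiberMod f L y)
        (CohIII.fiberMod f (factor t j) y) d ℓ) fun j => by
    obtain ⟨e⟩ := hgen j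
    obtain ⟨U, hU, h⟩ := exists_open_ellSS f (hfc j) i hf eL (W := U₁) hℓ
      (fun x hx => hfl₁ j (f x) hx x rfl) hU₁
      ((isEllSemistable_iff_SS (k := S.residueField η) (X := StabOpen.fib f η) (hamp η) ℓ).2
        (SS.of_iso (k := S.residueField η) (X := StabOpen.fib f η) (hamp η) (hs.ss j) e))
    exact ⟨U, hU, h⟩
  refine ⟨U₁ ⊓ U₂ ⊓ U₃, t, ⟨η, ⟨hU₁, hU₂⟩, hU₃⟩, hth, htl, htc,
    fun j x hx => hfl₁ j (f x) hx.1.1 x rfl, fun z hz => ?_⟩
  haveI := hmono z hz.1.2
  let G := Scheme.Modules.pullback (f.fiberι z)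
  haveI := (Scheme.Modules.pullbackPushforwardAdjunction (f.fiberι z)).isLeftAdjoint
  let tsf : Fin (t.length + 1) → Subobject (CohIII.fiberMod f F z) := fun j => Subobject.mk (G.map (t j).arrow)
  have hts : ∀ j : Fin t.length, tsf j.castSucc < tsf j.succ := fun j => by
    obtain ⟨e⟩ := hfac z hz.1.2 j
    exact not_isZero_of_ss (mk_map_le G (t.step j).le) fun h0 => (hss j z hz.2).2.1 (h0.of_iso e.symm)
  let ts : LTSeries (Subobject (CohIII.fiberMod f F z)) := ⟨t.length, tsf, hts⟩
  have hP : ∀ j : Fin t.length, ∃ P, ShStab.IsHilbPoly (S.residueField η) (StabOpen.fib f η) (CohIII.fiberMod f L η)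
      (CohIII.fiberMod f (factor t j) η) P ∧
      ShStab.IsHilbPoly (S.residueField z) (StabOpen.fib f z) (CohIII.fiberMod f L z) (factor ts j) P ∧
      HilbPoly.hp (X := StabOpen.fib f η) (S.residueField η) (CohIII.fiberMod f L η) (factor s j) = P := fun j => by
    obtain ⟨e⟩ := hgen j
    obtain ⟨e'⟩ := hfac z hz.1.2 j
    have h1 := HilbPoly.hilb_iso e (hp_spec (k := S.residueField η) (X := StabOpen.fib f η) (hamp η) (hs.ss j).tame)
    exact ⟨_, h1, HilbPoly.hilb_iso (k := S.residueField z) (X := StabOpen.fib f z) e'.symm (hilb_above f hLi (hfc j)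
      (fun x hx => hfl₁ j (f x) hx x rfl) hU₁ hz.1.1 h1), rfl⟩
  refine ⟨ts, rfl, fun j j' hjj => ?_, ?_, ?_, fun j => ?_, fun j j' hjj p q hp' hq' => ?_⟩
  · obtain rfl : j = j' := Fin.ext hjj
    exact (imageSubobject_mono _).symm
  · show Subobject.mk (G.map (t 0).arrow) = ⊥
    have h0 : (t 0).arrow = 0 := by rw [show t 0 = ⊥ from hth, Subobject.bot_arrow]
    rw [eq_bot_iff]
    refine Subobject.mk_le_of_comm 0 ?_
    rw [zero_comp, h0, Functor.map_zero]
  · show Subobject.mk (G.map (t (Fin.last _)).arrow) = ⊤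
    haveI : IsIso (t (Fin.last t.length)).arrow := by
      rw [show t (Fin.last t.length) = ⊤ from htl]; infer_instance
    exact Subobject.mk_eq_top_of_isIso _
  · obtain ⟨e⟩ := hfac z hz.1.2 j
    exact (isEllSemistable_iff_SS (k := S.residueField z) (X := StabOpen.fib f z) (hamp z) ℓ).2
      (SS.of_iso (k := S.residueField z) (X := StabOpen.fib f z) (hamp z)
        ((isEllSemistable_iff_SS (k := S.residueField z) (X := StabOpen.fib f z) (hamp z) ℓ).1 (hss j z hz.2)) e.symm)
  · obtain ⟨P, -, hP1, hP2⟩ := hP j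
    obtain ⟨P', -, hP1', hP2'⟩ := hP j'
    obtain ⟨Q, hQ, rfl⟩ := hp'
    obtain ⟨Q', hQ', rfl⟩ := hq'
    obtain rfl := HilbPoly.isHilbPoly_unique hQ hP1
    obtain rfl := HilbPoly.isHilbPoly_unique hQ' hP1'
    have hlt := hs.lt j j' hjj
    rw [sl, sl, hP2, hP2'] at hlt
    refine ((Tr.top d ℓ).redLT_iff ?_ ?_).2 hlt
    · rw [← hP2']; exact SS.alpha_pos' (k := S.residueField η) (X := StabOpen.fib f η) (hamp η) (hs.ss j')
    · rw [← hP2]; exact SS.alpha_pos' (k := S.residueField η) (X := StabOpen.fib f η) (hamp η) (hs.ss j)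

end Groth.Agent.HNGen

end
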